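import Groth.Agent.SymAlgRel.VBundle
import Groth.Agent.QCTrace.Split

/-!
# The relative spectrum of a locally free algebra of rank `d` is a cover of degree `d`
-/

set_option autoImplicit false
set_option backward.isDefEq.respectTransparency false
set_option backward.isDefEq.respectTransparency.types false

noncomputable section

universe u

open CategoryTheory CategoryTheory.Limits AlgebraicGeometry TopologicalSpace Opposite
open Groth.Agent.QCohBase Groth.Agent.FrameHom

namespace Groth.Agent.CoverSpec

variable {X : Scheme.{u}} (A : RelSpec.QCAlg X) {d : ℕ}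

theorem finite_projective {hA : FlatMod.IsFinLocFree A.toModule} (U : X.Opens) (hU : IsAffineOpen U) :
    letI : Algebra Γ(X, U) (A.presheaf.obj (op U)) := (A.str.app (op U)).hom.toAlgebra
    Module.Finite Γ(X, U) (A.presheaf.obj (op U)) ∧ Module.Projective Γ(X, U) (A.presheaf.obj (op U)) := by
  letI : Algebra Γ(X, U) (A.presheaf.obj (op U)) := (A.str.app (op U)).hom.toAlgebra
  let eqv : Γ(A.toModule, U) ≃ₗ[Γ(X, U)] A.presheaf.obj (op U) :=
    { toFun := fun x => x, invFun := fun x => x, map_add' := fun _ _ => rfl, map_smul' := fun _ _ => rfl }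
  obtain ⟨h1, h2⟩ := FinLocFreeSections.finite_projective_sections A.toModule hA hU
  exact ⟨Module.Finite.equiv eqv, Module.Projective.of_equiv eqv⟩

theorem isCover (hA : FlatMod.IsFinLocFreeOfRank d A.toModule) : FinCov.IsCover A.π d := by
  have hA' := QCTrace.isFinLocFree_of_rank' hA
  have hfin : IsFinite A.π := SymAlgRel.π_prop A @IsFinite fun U hU => by
    rw [IsFinite.SpecMap_iff]
    exact (finite_projective A (hA := hA') U hU).1
  have hflat : Flat A.π := SymAlgRel.π_prop A @Flat fun U hU => by
    rw [Flat.SpecMap_iff]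
    letI : Algebra Γ(X, U) (A.presheaf.obj (op U)) := (A.str.app (op U)).hom.toAlgebra
    haveI := (finite_projective A (hA := hA') U hU).2
    exact (Module.Flat.of_projective : Module.Flat Γ(X, U) (A.presheaf.obj (op U)))
  have hfp : LocallyOfFinitePresentation A.π :=
    SymAlgRel.π_prop A @LocallyOfFinitePresentation fun U hU => by
      rw [HasRingHomProperty.Spec_iff (P := @LocallyOfFinitePresentation)]
      letI : Algebra Γ(X, U) (A.presheaf.obj (op U)) := (A.str.app (op U)).hom.toAlgebra
      haveI := (finite_projective A (hA := hA') U hU).1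
      haveI := (finite_projective A (hA := hA') U hU).2
      haveI : Module.FinitePresentation Γ(X, U) (A.presheaf.obj (op U)) :=
        Module.finitePresentation_of_projective _ _
      exact (RingHom.finitePresentation_algebraMap (A := Γ(X, U)) (B := A.presheaf.obj (op U))).2 (inferInstance :
        Algebra.FinitePresentation Γ(X, U) (A.presheaf.obj (op U)))
  refine ⟨⟨hfin, hflat, hfp⟩, fun y => ?_⟩
  obtain ⟨U, hyU, e, he⟩ := QCTrace.exists_basis_rank hA y
  obtain ⟨W, hW, hyW, hWU⟩ := Opens.isBasis_iff_nbhd.1 X.isBasis_affineOpens hyU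
  letI : Algebra Γ(X, W) (A.presheaf.obj (op W)) := (A.str.app (op W)).hom.toAlgebra
  haveI := (finite_projective A (hA := hA') W hW).1
  haveI := (finite_projective A (hA := hA') W hW).2
  let eqv : Γ(A.toModule, W) ≃ₗ[Γ(X, W)] A.presheaf.obj (op W) :=
    { toFun := fun x => x, invFun := fun x => x, map_add' := fun _ _ => rfl, map_smul' := fun _ _ => rfl }
  let b : Module.Basis (Fin d) Γ(X, W) (A.presheaf.obj (op W)) :=
    (Module.Basis.ofEquivFun (LinearEquiv.ofBijective (he.coord W hWU)
      ⟨fun x y hxy => (he.comb_coord _ _ x).symm.trans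
        ((congrArg (comb A.toModule e hWU) hxy).trans (he.comb_coord _ _ y)),
       fun r => ⟨comb A.toModule e hWU r, (he W hWU).1 (he.comb_coord _ _ _)⟩⟩)).map eqv
  haveI : Module.Free Γ(X, W) (A.presheaf.obj (op W)) := Module.Free.of_basis b
  have hsq : IsPullback (A.ι W hW) (Spec.map (A.str.app (op W))) A.π hW.fromSpec :=
    (IsOpenImmersion.isPullback _ _ _ _ (A.ι_π W hW)
      (by rw [IsAffineOpen.opensRange_fromSpec]; exact A.π_preimage W hW)).flip
  obtain ⟨z, rfl⟩ := (SetLike.ext_iff.1 hW.opensRange_fromSpec y).2 hyW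
  rw [← Scheme.Hom.finrank_of_isPullback _ _ _ _ hsq z]
  refine (Scheme.Hom.finrank_SpecMap_algebraMap Γ(X, W) (A.presheaf.obj (op W)) z).trans ?_
  haveI : Nontrivial Γ(X, W) := by
    haveI : Nonempty W := ⟨⟨_, hyW⟩⟩
    exact (X.presheaf.germ W _ hyW).hom.domain_nontrivial
  rw [Module.rankAtStalk_eq_finrank_of_free, Module.finrank_eq_card_basis b, Fintype.card_fin]
  rfl

end Groth.Agent.CoverSpec
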